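import Cfsg.Agent.Lib.ONLocal.BEData0
import Cfsg.Agent.Lib.ONLocal.BEData1
import Cfsg.Agent.Lib.ONLocal.BEData2
import Cfsg.Agent.Lib.ONLocal.BEData3
import Cfsg.Agent.Lib.ONLocal.BEData4

/-!
# The certificate BE
-/

set_option autoImplicit false
set_option maxHeartbeats 0
set_option maxRecDepth 100000

noncomputable section

namespace Cfsg.Agent.ONLocal

open Cfsg.Agent.InvCoset

def FBE : NTree := (.node 3000 (.node 1500 FBE_0 FBE_1) (.node 1500 FBE_2 (.node 1500 FBE_3 FBE_4)))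

def CBE : Facts where
  K := 8
  iv := ONTable.iv
  R := [
    [4, 3, 4, 3, 4, 3],
    [3, 5, 3, 5],
    [5, 3, 4, 3, 4, 3, 5, 4, 5, 4],
    [1, 0, 1, 0, 1, 0],
    [2, 4, 2, 4],
    [4, 7, 1, 7, 5, 3, 4, 3, 5, 4, 6, 1, 6, 4, 5, 3],
    [4, 0, 4, 3, 5, 4, 0, 4, 5, 3],
    [6, 6, 6, 6],
    [3, 6, 2, 7, 3, 7, 3, 2, 3, 6],
    [1, 2, 1, 2, 1, 2],
    [5, 0, 5, 0],
    [6, 3, 6, 4, 3, 6, 3, 4, 6, 4, 3],
    [2, 6, 2, 6, 1, 2, 6, 2, 1, 6, 1],
    [7, 5, 6, 5],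
    [2, 6, 3, 7, 2, 7, 2, 3, 2, 6],
    [4, 3, 5, 4, 1, 4, 5, 3, 4, 1],
    [7, 7, 0, 5],
    [3, 4, 5, 4, 3, 5, 4, 3, 4, 5],
    [5, 2, 5, 2],
    [0, 7, 0, 6],
    [0, 2, 0, 2],
    [0, 4, 0, 4],
    [3, 2, 3, 2, 3, 2, 3, 2, 3, 2, 3, 2, 3, 2, 3, 2],
    [1, 3, 1, 3],
    [0, 3, 0, 3],
    [5, 1, 5, 1],
    [2, 3, 2, 3, 2, 3, 2, 3, 5, 0],
    [5, 3, 5, 3],
    [5, 7, 5, 6],
    [3, 2, 3, 2, 3, 2, 3, 5, 0, 2],
    [0, 1, 0, 1, 0, 1],
    [3, 4, 0, 4, 3, 5, 4, 0, 4, 5],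
    [0, 5, 0, 5],
    [6, 2, 6, 3, 7, 2, 7, 2, 3, 2],
    [5, 3, 4, 0, 4, 3, 5, 4, 0, 4],
    [6, 3, 6, 2, 7, 3, 7, 3, 2, 3],
    [4, 3, 6, 3, 6, 4, 3, 6, 3, 4, 6],
    [1, 4, 3, 5, 4, 1, 4, 5, 3, 4],
    [1, 5, 1, 5],
    [0, 4, 5, 3, 4, 0, 4, 3, 5, 4],
    [5, 3, 4, 5, 4, 3, 5, 4, 3, 4],
    [2, 5, 2, 5],
    [2, 3, 2, 3, 2, 3, 2, 3, 2, 3, 2, 3, 2, 3, 2, 3],
    [3, 4, 3, 4, 3, 4],
    [3, 4, 1, 4, 3, 5, 4, 1, 4, 5],
    [6, 4, 5, 3, 4, 7, 1, 7, 5, 3, 4, 3, 5, 4, 6, 1],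
    [2, 3, 6, 3, 6, 2, 7, 3, 7, 3],
    [3, 2, 6, 2, 6, 3, 7, 2, 7, 2],
    [5, 4, 5, 3, 4, 3, 4, 3, 5, 4],
    [4, 5, 3, 4, 5, 4, 3, 5, 4, 3],
    [3, 1, 3, 1],
    [6, 4, 3, 6, 3, 6, 4, 3, 6, 3, 4],
    [7, 0, 5, 7],
    [3, 6, 3, 6, 4, 3, 6, 3, 4, 6, 4],
    [7, 3, 2, 1, 7, 3, 2, 1, 7, 3, 2, 1, 7, 3, 2, 1, 7, 3, 2, 1],
    [3, 4, 7, 1, 7, 5, 3, 4, 3, 5, 4, 6, 1, 6, 4, 5],
    [6, 0, 7, 0],
    [7, 1, 7, 5, 3, 4, 3, 5, 4, 6, 1, 6, 4, 5, 3, 4],
    [4, 5, 4, 5, 3, 4, 3, 4, 3, 5],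
    [4, 1, 4, 3, 5, 4, 1, 4, 5, 3],
    [5, 3, 4, 1, 4, 3, 5, 4, 1, 4],
    [4, 2, 4, 2],
    [3, 4, 5, 3, 4, 5, 4, 3, 5, 4],
    [4, 5, 3, 4, 1, 4, 3, 5, 4, 1],
    [1, 6, 4, 5, 3, 4, 7, 1, 7, 5, 3, 4, 3, 5, 4, 6],
    [5, 6, 5, 7],
    [7, 2, 3, 2, 6, 2, 6, 3, 7, 2],
    [3, 2, 3, 2, 3, 5, 0, 2, 3, 2],
    [7, 3, 2, 3, 6, 3, 6, 2, 7, 3],
    [5, 3, 4, 7, 1, 7, 5, 3, 4, 3, 5, 4, 6, 1, 6, 4],
    [2, 0, 2, 0],
    [4, 5, 3, 4, 3, 4, 3, 5, 4, 5],
    [6, 3, 4, 6, 4, 3, 6, 3, 6, 4, 3],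
    [4, 5, 3, 4, 0, 4, 3, 5, 4, 0],
    [1, 2, 6, 2, 1, 6, 1, 2, 6, 2, 6],
    [3, 2, 3, 6, 3, 6, 2, 7, 3, 7],
    [2, 3, 2, 3, 5, 0, 2, 3, 2, 3],
    [3, 0, 3, 0],
    [4, 5, 4, 3, 5, 4, 3, 4, 5, 3],
    [3, 6, 3, 6, 2, 7, 3, 7, 3, 2],
    [4, 6, 4, 3, 6, 3, 6, 4, 3, 6, 3],
    [4, 5, 3, 4, 7, 1, 7, 5, 3, 4, 3, 5, 4, 6, 1, 6],
    [6, 3, 7, 2, 7, 2, 3, 2, 6, 2],
    [3, 7, 3, 2, 3, 6, 3, 6, 2, 7],
    [5, 0, 2, 3, 2, 3, 2, 3, 2, 3],
    [6, 4, 3, 6, 3, 4, 6, 4, 3, 6, 3],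
    [3, 4, 6, 4, 3, 6, 3, 6, 4, 3, 6],
    [0, 4, 3, 5, 4, 0, 4, 5, 3, 4],
    [0, 6, 0, 7]]
  S := []
  F := FBE
  N := 6595

theorem startBE : fcM (CBE.F.read 0) = 1 := by decide +kernel

theorem rotsBE : subOf CBE.R (allRots ONTable.iv (base ++ ONTable.Wder)) = true := by decide +kernel

theorem partBE0 : factsOK CBE 0 250 = true := by decide +kernel

theorem uptoBE250 : ∀ i < 250, factOK CBE i = true :=
  facts_add (C := CBE) 0 250 (facts_zero CBE) partBE0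

theorem partBE250 : factsOK CBE 250 250 = true := by decide +kernel

theorem uptoBE500 : ∀ i < 500, factOK CBE i = true :=
  facts_add (C := CBE) 250 250 uptoBE250 partBE250

theorem partBE500 : factsOK CBE 500 250 = true := by decide +kernel

theorem uptoBE750 : ∀ i < 750, factOK CBE i = true :=
  facts_add (C := CBE) 500 250 uptoBE500 partBE500

theorem partBE750 : factsOK CBE 750 250 = true := by decide +kernel

theorem uptoBE1000 : ∀ i < 1000, factOK CBE i = true :=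
  facts_add (C := CBE) 750 250 uptoBE750 partBE750

theorem partBE1000 : factsOK CBE 1000 250 = true := by decide +kernel

theorem uptoBE1250 : ∀ i < 1250, factOK CBE i = true :=
  facts_add (C := CBE) 1000 250 uptoBE1000 partBE1000

theorem partBE1250 : factsOK CBE 1250 250 = true := by decide +kernel

theorem uptoBE1500 : ∀ i < 1500, factOK CBE i = true :=
  facts_add (C := CBE) 1250 250 uptoBE1250 partBE1250

theorem partBE1500 : factsOK CBE 1500 250 = true := by decide +kernel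

theorem uptoBE1750 : ∀ i < 1750, factOK CBE i = true :=
  facts_add (C := CBE) 1500 250 uptoBE1500 partBE1500

theorem partBE1750 : factsOK CBE 1750 250 = true := by decide +kernel

theorem uptoBE2000 : ∀ i < 2000, factOK CBE i = true :=
  facts_add (C := CBE) 1750 250 uptoBE1750 partBE1750

theorem partBE2000 : factsOK CBE 2000 250 = true := by decide +kernel

theorem uptoBE2250 : ∀ i < 2250, factOK CBE i = true :=
  facts_add (C := CBE) 2000 250 uptoBE2000 partBE2000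

theorem partBE2250 : factsOK CBE 2250 250 = true := by decide +kernel

theorem uptoBE2500 : ∀ i < 2500, factOK CBE i = true :=
  facts_add (C := CBE) 2250 250 uptoBE2250 partBE2250

theorem partBE2500 : factsOK CBE 2500 250 = true := by decide +kernel

theorem uptoBE2750 : ∀ i < 2750, factOK CBE i = true :=
  facts_add (C := CBE) 2500 250 uptoBE2500 partBE2500

theorem partBE2750 : factsOK CBE 2750 250 = true := by decide +kernel

theorem uptoBE3000 : ∀ i < 3000, factOK CBE i = true :=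
  facts_add (C := CBE) 2750 250 uptoBE2750 partBE2750

theorem partBE3000 : factsOK CBE 3000 250 = true := by decide +kernel

theorem uptoBE3250 : ∀ i < 3250, factOK CBE i = true :=
  facts_add (C := CBE) 3000 250 uptoBE3000 partBE3000

theorem partBE3250 : factsOK CBE 3250 250 = true := by decide +kernel

theorem uptoBE3500 : ∀ i < 3500, factOK CBE i = true :=
  facts_add (C := CBE) 3250 250 uptoBE3250 partBE3250

theorem partBE3500 : factsOK CBE 3500 250 = true := by decide +kernel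

theorem uptoBE3750 : ∀ i < 3750, factOK CBE i = true :=
  facts_add (C := CBE) 3500 250 uptoBE3500 partBE3500

theorem partBE3750 : factsOK CBE 3750 250 = true := by decide +kernel

theorem uptoBE4000 : ∀ i < 4000, factOK CBE i = true :=
  facts_add (C := CBE) 3750 250 uptoBE3750 partBE3750

theorem partBE4000 : factsOK CBE 4000 250 = true := by decide +kernel

theorem uptoBE4250 : ∀ i < 4250, factOK CBE i = true :=
  facts_add (C := CBE) 4000 250 uptoBE4000 partBE4000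

theorem partBE4250 : factsOK CBE 4250 250 = true := by decide +kernel

theorem uptoBE4500 : ∀ i < 4500, factOK CBE i = true :=
  facts_add (C := CBE) 4250 250 uptoBE4250 partBE4250

theorem partBE4500 : factsOK CBE 4500 250 = true := by decide +kernel

theorem uptoBE4750 : ∀ i < 4750, factOK CBE i = true :=
  facts_add (C := CBE) 4500 250 uptoBE4500 partBE4500

theorem partBE4750 : factsOK CBE 4750 250 = true := by decide +kernel

theorem uptoBE5000 : ∀ i < 5000, factOK CBE i = true :=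
  facts_add (C := CBE) 4750 250 uptoBE4750 partBE4750

theorem partBE5000 : factsOK CBE 5000 250 = true := by decide +kernel

theorem uptoBE5250 : ∀ i < 5250, factOK CBE i = true :=
  facts_add (C := CBE) 5000 250 uptoBE5000 partBE5000

theorem partBE5250 : factsOK CBE 5250 250 = true := by decide +kernel

theorem uptoBE5500 : ∀ i < 5500, factOK CBE i = true :=
  facts_add (C := CBE) 5250 250 uptoBE5250 partBE5250

theorem partBE5500 : factsOK CBE 5500 250 = true := by decide +kernel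

theorem uptoBE5750 : ∀ i < 5750, factOK CBE i = true :=
  facts_add (C := CBE) 5500 250 uptoBE5500 partBE5500

theorem partBE5750 : factsOK CBE 5750 250 = true := by decide +kernel

theorem uptoBE6000 : ∀ i < 6000, factOK CBE i = true :=
  facts_add (C := CBE) 5750 250 uptoBE5750 partBE5750

theorem partBE6000 : factsOK CBE 6000 250 = true := by decide +kernel

theorem uptoBE6250 : ∀ i < 6250, factOK CBE i = true :=
  facts_add (C := CBE) 6000 250 uptoBE6000 partBE6000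

theorem partBE6250 : factsOK CBE 6250 250 = true := by decide +kernel

theorem uptoBE6500 : ∀ i < 6500, factOK CBE i = true :=
  facts_add (C := CBE) 6250 250 uptoBE6250 partBE6250

theorem partBE6500 : factsOK CBE 6500 95 = true := by decide +kernel

theorem uptoBE6595 : ∀ i < 6595, factOK CBE i = true :=
  facts_add (C := CBE) 6500 95 uptoBE6500 partBE6500

def bodyBE : ℕ := 0x48002ac0670800002

theorem loopBE : follow CBE.K CBE.iv CBE.F CBE.N 4 bodyBE 0 = some (0, [1, 4, 1, 4]) := by decide +kernel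

end Cfsg.Agent.ONLocal
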