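import Cfsg.Agent.Lib.ONLocal.GData0

/-!
# The certificate G
-/

set_option autoImplicit false
set_option maxHeartbeats 0
set_option maxRecDepth 100000

noncomputable section

namespace Cfsg.Agent.ONLocal

open Cfsg.Agent.InvCoset

def FG : NTree := FG_0

def CG : Facts where
  K := 8
  iv := ONTable.iv
  R := [
    [0, 5, 0, 5],
    [7, 7, 0, 5],
    [6, 2, 7, 3, 7, 3, 2, 3, 6, 3],
    [7, 0, 5, 7]]
  S := []
  F := FG
  N := 19

theorem startG : fcM (CG.F.read 0) = 1 := by decide +kernel

theorem rotsG : subOf CG.R (allRots ONTable.iv (base0)) = true := by decide +kernel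

theorem partG0 : factsOK CG 0 19 = true := by decide +kernel

theorem uptoG19 : ∀ i < 19, factOK CG i = true :=
  facts_add (C := CG) 0 19 (facts_zero CG) partG0

def bodyG : ℕ := 0xf0000900001a0000a

theorem loopG : follow CG.K CG.iv CG.F CG.N 4 bodyG 0 = some (0, [6, 6, 6, 6]) := by decide +kernel

end Cfsg.Agent.ONLocal
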