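import Cfsg.Agent.Lib.ONLocal.CertA
import Cfsg.Agent.Lib.ONLocal.CertBE
import Cfsg.Agent.Lib.ONLocal.CertG
import Cfsg.Agent.Lib.ONGroup.Gens

/-!
# The two centralisers and the forced relations give every relator of the O'Nan group

If eight letters satisfy all relators except the commutation of `b` and `e`, and conjugation by `e d f e`
carries the six generators of `C(f, d)` as prescribed, then `(b e) ^ 2 = 1` follows.
-/

set_option autoImplicit false

noncomputable section

namespace Cfsg.Agent.ONLocal

open Cfsg.Spor Cfsg.Agent.InvCoset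

theorem range_base : inRange 8 (base ++ ONTable.Wder).flatten = true := by decide +kernel

theorem cover : subOf (ONTable.W0 ++ ONTable.Wsq) ([1, 4, 1, 4] :: base) = true := by decide +kernel

theorem prodE_loop {A : Type*} [Group A] (e : ℕ → A) (hp : Paired 8 ONTable.iv e) {B : List (List ℕ)}
    (hr : inRange 8 B.flatten = true) (hB : ∀ w ∈ B, prodE e w = 1) (C : Facts) (hK : C.K = 8)
    (hiv : C.iv = ONTable.iv) (hrot : subOf C.R (allRots ONTable.iv B) = true) (hS : C.S = [])
    (h0 : fcM (C.F.read 0) = 1) (hall : ∀ i < C.N, factOK C i = true) (len body : ℕ) {w : List ℕ}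
    (h : follow C.K C.iv C.F C.N len body 0 = some (0, w)) : prodE e w = 1 :=
  loop_triv e (by rw [hK, hiv]; exact hp)
    (fun r hr' => prodE_allRots hp
      (fun v hv y hy => inRange_spec hr y (List.mem_flatten.mpr ⟨v, hv, hy⟩)) hB r (subOf_spec hrot r hr'))
    hS h0 hall len body h

/-- The three derived relators. -/
theorem derived_words {A : Type*} [Group A] (e : ℕ → A) (hp : Paired 8 ONTable.iv e)
    (hb : ∀ w ∈ base0, prodE e w = 1) : ∀ w ∈ ONTable.Wder, prodE e w = 1 := by
  have hrb : inRange 8 base0.flatten = true := by decide +kernel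
  have hA : prodE e [0, 6, 0, 7] = 1 :=
    prodE_loop e hp hrb hb CA rfl rfl rotsA rfl startA (fun i hi => uptoA3740 i hi) _ _ loopA
  have hG : prodE e [6, 6, 6, 6] = 1 :=
    prodE_loop e hp hrb hb CG rfl rfl rotsG rfl startG (fun i hi => uptoG19 i hi) _ _ loopG
  have hF : prodE e [5, 6, 5, 7] = 1 := by
    have h1 := hb [0, 5, 7, 7] (subOf_spec (show subOf [[0, 5, 7, 7]] base0 = true by decide +kernel) _
      List.mem_cons_self)
    have h0 : e 0 * e 0 = 1 := by
      have := hb [0, 0] (subOf_spec (show subOf [[0, 0]] base0 = true by decide +kernel) _ List.mem_cons_self)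
      simpa [prodE] using this
    have h5 : e 5 * e 5 = 1 := by
      have := hb [5, 5] (subOf_spec (show subOf [[5, 5]] base0 = true by decide +kernel) _ List.mem_cons_self)
      simpa [prodE] using this
    have i7 : e 7 = (e 6)⁻¹ := by
      have := hp.inv 6 (by norm_num)
      simpa [ivL, ONTable.iv] using this
    simp only [prodE, mul_one, i7] at h1 hA ⊢
    have e0 : (e 0)⁻¹ = e 0 := inv_eq_of_mul_eq_one_right h0
    have e5 : e 5 = e 0 * (e 6 * e 6) := by
      have h2 : e 5 * ((e 6)⁻¹ * (e 6)⁻¹) = e 0 := by rw [← e0]; exact eq_inv_of_mul_eq_one_right h1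
      rw [← h2]; group
    have c0 : e 0 * e 6 = e 6 * e 0 := by
      have h2 : e 0 * e 6 * e 0 = e 6 := by
        have := mul_eq_one_iff_eq_inv.1 (show e 0 * e 6 * e 0 * (e 6)⁻¹ = 1 by rw [← hA]; group)
        rwa [inv_inv] at this
      calc e 0 * e 6 = e 0 * e 6 * (e 0 * e 0) := by rw [h0, mul_one]
        _ = e 0 * e 6 * e 0 * e 0 := by group
        _ = e 6 * e 0 := by rw [h2]
    have c5 : e 5 * e 6 = e 6 * e 5 := by
      rw [e5]
      calc e 0 * (e 6 * e 6) * e 6 = e 0 * e 6 * (e 6 * e 6) := by group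
        _ = e 6 * e 0 * (e 6 * e 6) := by rw [c0]
        _ = _ := by group
    calc e 5 * (e 6 * (e 5 * (e 6)⁻¹)) = e 5 * (e 6 * e 5) * (e 6)⁻¹ := by group
      _ = e 5 * (e 5 * e 6) * (e 6)⁻¹ := by rw [c5]
      _ = e 5 * e 5 := by group
      _ = 1 := h5
  intro w hw
  simp only [ONTable.Wder, List.mem_cons, List.not_mem_nil, or_false] at hw
  rcases hw with rfl | rfl | rfl
  exacts [hA, hF, hG]

/-- All the relators of the presentation follow. -/
theorem all_words {A : Type*} [Group A] (e : ℕ → A) (hp : Paired 8 ONTable.iv e)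
    (hb : ∀ w ∈ base, prodE e w = 1) : ∀ w ∈ ONTable.W0 ++ ONTable.Wsq, prodE e w = 1 := by
  have hd : ∀ w ∈ base ++ ONTable.Wder, prodE e w = 1 := by
    intro w hw
    rcases List.mem_append.mp hw with hw | hw
    · exact hb w hw
    · exact derived_words e hp (fun v hv => hb v (List.mem_append_left _ hv)) w hw
  have hbe : prodE e [1, 4, 1, 4] = 1 :=
    prodE_loop e hp range_base hd CBE rfl rfl rotsBE rfl startBE (fun i hi => uptoBE6595 i hi) _ _ loopBE
  intro w hw
  rcases List.mem_cons.mp (subOf_spec cover w hw) with rfl | h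
  exacts [hbe, hb w h]

open ONGroup in
/-- Values with these relations extend to a homomorphism from the presented group. -/
theorem exists_hom {A : Type*} [Group A] (h : ON.Gen → A) (hinv : ∀ x ∈ nodes, h x * h x = 1)
    (hb : ∀ w ∈ base, prodE (letterVal h) w = 1) :
    ∃ φ : Cfsg.Spor.ON →* A, ∀ x, φ (gen x) = h x :=
  ⟨PresentedGroup.toGroup (relators_of_words h hinv (all_words _ (paired h hinv) hb)),
    fun _ => PresentedGroup.toGroup.of _⟩

end Cfsg.Agent.ONLocal
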