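import Cfsg.Agent.Lib.ONLocal.V1Data0

/-!
# The certificate V1
-/

set_option autoImplicit false
set_option maxHeartbeats 0
set_option maxRecDepth 100000

noncomputable section

namespace Cfsg.Agent.ONLocal

open Cfsg.Agent.InvCoset

def FV1 : NTree := FV1_0

def CV1 : Facts where
  K := 8
  iv := ONTable.iv
  R := [
    [1, 0, 1, 0, 1, 0],
    [0, 4, 0, 4],
    [1, 2, 1, 2, 1, 2],
    [3, 1, 3, 1],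
    [5, 1, 5, 1],
    [2, 4, 2, 4],
    [4, 3, 4, 3, 4, 3],
    [4, 5, 4, 5, 4, 5],
    [6, 1, 2, 3, 6, 1, 2, 3, 6, 1, 2, 3, 6, 1, 2, 3, 6, 1, 2, 3],
    [1, 6, 1, 2, 6, 2, 6, 1, 2, 6, 2],
    [6, 4, 3, 6, 3, 6, 4, 3, 6, 3, 4],
    [0, 4, 5, 3, 4, 0, 4, 3, 5, 4],
    [4, 0, 1, 0, 4, 3, 5, 4, 1, 4, 5, 3],
    [3, 4, 5, 3, 4, 5, 4, 3, 5, 4],
    [5, 4, 5, 3, 4, 3, 4, 3, 5, 4],
    [4, 6, 1, 7, 3, 0, 4, 3, 5, 4, 6, 1, 6, 4, 5, 3],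
    [6, 4, 5, 3, 4, 3, 7, 2, 7, 5, 2, 4, 3, 5, 4, 2, 6, 2],
    [0, 2, 0, 2],
    [3, 0, 3, 0],
    [5, 0, 5, 0],
    [5, 2, 5, 2],
    [7, 7, 0, 5],
    [3, 2, 3, 2, 3, 2, 0, 5, 3, 2],
    [6, 3, 6, 2, 7, 3, 7, 3, 2, 3],
    [3, 2, 6, 2, 6, 3, 7, 2, 7, 2],
    [2, 6, 2, 6, 1, 2, 6, 2, 1, 6, 1],
    [4, 3, 6, 3, 6, 4, 3, 6, 3, 4, 6],
    [1, 4, 5, 3, 4, 0, 1, 0, 4, 3, 5, 4],
    [7, 3, 0, 4, 3, 5, 4, 6, 1, 6, 4, 5, 3, 4, 6, 1],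
    [7, 2, 7, 5, 2, 4, 3, 5, 4, 2, 6, 2, 6, 4, 5, 3, 4, 3],
    [0, 7, 0, 6],
    [5, 7, 5, 6],
    [6, 6, 6, 6],
    [0, 3, 0, 3],
    [0, 5, 0, 5],
    [1, 3, 1, 3],
    [2, 3, 2, 3, 2, 3, 2, 3, 2, 3, 2, 3, 2, 3, 2, 3],
    [3, 5, 3, 5],
    [2, 3, 2, 3, 2, 3, 2, 0, 5, 3],
    [2, 3, 6, 1, 2, 3, 6, 1, 2, 3, 6, 1, 2, 3, 6, 1, 2, 3, 6, 1],
    [3, 6, 3, 6, 4, 3, 6, 3, 4, 6, 4],
    [1, 7, 3, 0, 4, 3, 5, 4, 6, 1, 6, 4, 5, 3, 4, 6],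
    [7, 5, 2, 4, 3, 5, 4, 2, 6, 2, 6, 4, 5, 3, 4, 3, 7, 2],
    [3, 6, 2, 7, 3, 7, 3, 2, 3, 6],
    [6, 1, 7, 3, 0, 4, 3, 5, 4, 6, 1, 6, 4, 5, 3, 4],
    [0, 1, 0, 1, 0, 1],
    [3, 4, 3, 4, 3, 4],
    [5, 3, 5, 3],
    [7, 0, 5, 7],
    [6, 2, 6, 3, 7, 2, 7, 2, 3, 2],
    [3, 4, 0, 4, 3, 5, 4, 0, 4, 5],
    [5, 3, 4, 3, 4, 3, 5, 4, 5, 4],
    [3, 7, 2, 7, 5, 2, 4, 3, 5, 4, 2, 6, 2, 6, 4, 5, 3, 4],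
    [3, 2, 3, 6, 3, 6, 2, 7, 3, 7],
    [6, 2, 7, 3, 7, 3, 2, 3, 6, 3],
    [2, 7, 5, 2, 4, 3, 5, 4, 2, 6, 2, 6, 4, 5, 3, 4, 3, 7],
    [1, 2, 3, 6, 1, 2, 3, 6, 1, 2, 3, 6, 1, 2, 3, 6, 1, 2, 3, 6],
    [5, 3, 4, 6, 1, 7, 3, 0, 4, 3, 5, 4, 6, 1, 6, 4],
    [6, 1, 2, 6, 2, 1, 6, 1, 2, 6, 2],
    [2, 3, 2, 3, 2, 0, 5, 3, 2, 3],
    [7, 3, 2, 3, 6, 3, 6, 2, 7, 3],
    [5, 3, 4, 5, 4, 3, 5, 4, 3, 4],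
    [3, 4, 0, 1, 0, 4, 3, 5, 4, 1, 4, 5],
    [5, 4, 0, 4, 5, 3, 4, 0, 4, 3],
    [6, 1, 2, 6, 2, 6, 1, 2, 6, 2, 1],
    [5, 3, 4, 0, 4, 3, 5, 4, 0, 4],
    [2, 6, 1, 2, 6, 2, 1, 6, 1, 2, 6],
    [4, 5, 3, 4, 0, 1, 0, 4, 3, 5, 4, 1],
    [6, 0, 7, 0],
    [6, 3, 4, 6, 4, 3, 6, 3, 6, 4, 3],
    [2, 7, 3, 7, 3, 2, 3, 6, 3, 6]]
  S := [0, 2, 3, 5, 6]
  F := FV1
  N := 1091

theorem startV1 : fcM (CV1.F.read 0) = 1 := by decide +kernel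

theorem rotsV1 : subOf CV1.R (allRots ONTable.iv (base0 ++ Wv.getD 0 [] ++ ONTable.Wder)) = true := by decide +kernel

theorem partV10 : factsOK CV1 0 250 = true := by decide +kernel

theorem uptoV1250 : ∀ i < 250, factOK CV1 i = true :=
  facts_add (C := CV1) 0 250 (facts_zero CV1) partV10

theorem partV1250 : factsOK CV1 250 250 = true := by decide +kernel

theorem uptoV1500 : ∀ i < 500, factOK CV1 i = true :=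
  facts_add (C := CV1) 250 250 uptoV1250 partV1250

theorem partV1500 : factsOK CV1 500 250 = true := by decide +kernel

theorem uptoV1750 : ∀ i < 750, factOK CV1 i = true :=
  facts_add (C := CV1) 500 250 uptoV1500 partV1500

theorem partV1750 : factsOK CV1 750 250 = true := by decide +kernel

theorem uptoV11000 : ∀ i < 1000, factOK CV1 i = true :=
  facts_add (C := CV1) 750 250 uptoV1750 partV1750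

theorem partV11000 : factsOK CV1 1000 91 = true := by decide +kernel

theorem uptoV11091 : ∀ i < 1091, factOK CV1 i = true :=
  facts_add (C := CV1) 1000 91 uptoV11000 partV11000

def bodyV1 : ℕ := 0x884

theorem loopV1 : follow CV1.K CV1.iv CV1.F CV1.N 1 bodyV1 0 = some (0, [1]) := by decide +kernel

end Cfsg.Agent.ONLocal
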