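import Cfsg.Agent.Lib.ONLocal.V2Data0

/-!
# The certificate V2
-/

set_option autoImplicit false
set_option maxHeartbeats 0
set_option maxRecDepth 100000

noncomputable section

namespace Cfsg.Agent.ONLocal

open Cfsg.Agent.InvCoset

def FV2 : NTree := FV2_0

def CV2 : Facts where
  K := 8
  iv := ONTable.iv
  R := [
    [3, 1, 3, 1],
    [5, 1, 5, 1],
    [6, 1, 2, 3, 6, 1, 2, 3, 6, 1, 2, 3, 6, 1, 2, 3, 6, 1, 2, 3],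
    [1, 6, 1, 2, 6, 2, 6, 1, 2, 6, 2],
    [0, 4, 5, 3, 4, 0, 4, 3, 5, 4],
    [4, 6, 1, 7, 4, 3, 5, 4, 1, 4, 5, 3],
    [3, 4, 5, 3, 4, 5, 4, 3, 5, 4],
    [5, 4, 5, 3, 4, 3, 4, 3, 5, 4],
    [7, 1, 6, 3, 1, 4, 3, 5, 4, 6, 1, 6, 4, 5, 3, 4],
    [6, 4, 5, 3, 4, 3, 7, 2, 7, 5, 2, 4, 3, 5, 4, 2, 6, 2],
    [0, 2, 0, 2],
    [3, 0, 3, 0],
    [5, 0, 5, 0],
    [5, 2, 5, 2],
    [7, 7, 0, 5],
    [3, 2, 3, 2, 3, 2, 0, 5, 3, 2],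
    [2, 6, 2, 6, 1, 2, 6, 2, 1, 6, 1],
    [4, 3, 6, 3, 6, 4, 3, 6, 3, 4, 6],
    [3, 4, 0, 4, 3, 5, 4, 0, 4, 5],
    [0, 7, 0, 6],
    [5, 7, 5, 6],
    [6, 6, 6, 6],
    [0, 3, 0, 3],
    [3, 5, 3, 5],
    [2, 3, 2, 3, 2, 3, 2, 0, 5, 3],
    [7, 5, 2, 4, 3, 5, 4, 2, 6, 2, 6, 4, 5, 3, 4, 3, 7, 2],
    [3, 6, 2, 7, 3, 7, 3, 2, 3, 6],
    [0, 1, 0, 1, 0, 1],
    [3, 4, 3, 4, 3, 4],
    [5, 3, 5, 3],
    [7, 0, 5, 7],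
    [6, 2, 6, 3, 7, 2, 7, 2, 3, 2],
    [6, 1, 2, 6, 2, 1, 6, 1, 2, 6, 2],
    [3, 4, 7, 1, 6, 3, 1, 4, 3, 5, 4, 6, 1, 6, 4, 5]]
  S := [0, 2, 3, 5, 6]
  F := FV2
  N := 285

theorem startV2 : fcM (CV2.F.read 0) = 1 := by decide +kernel

theorem rotsV2 : subOf CV2.R (allRots ONTable.iv (base0 ++ Wv.getD 1 [] ++ ONTable.Wder)) = true := by decide +kernel

theorem partV20 : factsOK CV2 0 250 = true := by decide +kernel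

theorem uptoV2250 : ∀ i < 250, factOK CV2 i = true :=
  facts_add (C := CV2) 0 250 (facts_zero CV2) partV20

theorem partV2250 : factsOK CV2 250 35 = true := by decide +kernel

theorem uptoV2285 : ∀ i < 285, factOK CV2 i = true :=
  facts_add (C := CV2) 250 35 uptoV2250 partV2250

def bodyV2 : ℕ := 0x238

theorem loopV2 : follow CV2.K CV2.iv CV2.F CV2.N 1 bodyV2 0 = some (0, [1]) := by decide +kernel

end Cfsg.Agent.ONLocal
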