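import Cfsg.Agent.Lib.ONLocal.V3Data0

/-!
# The certificate V3
-/

set_option autoImplicit false
set_option maxHeartbeats 0
set_option maxRecDepth 100000

noncomputable section

namespace Cfsg.Agent.ONLocal

open Cfsg.Agent.InvCoset

def FV3 : NTree := FV3_0

def CV3 : Facts where
  K := 8
  iv := ONTable.iv
  R := [
    [0, 4, 5, 3, 4, 0, 4, 3, 5, 4],
    [7, 1, 6, 4, 3, 5, 4, 1, 4, 5, 3, 4],
    [3, 4, 5, 3, 4, 5, 4, 3, 5, 4],
    [5, 4, 5, 3, 4, 3, 4, 3, 5, 4],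
    [1, 7, 1, 6, 3, 4, 3, 5, 4, 6, 1, 6, 4, 5, 3, 4],
    [6, 4, 5, 3, 4, 3, 7, 2, 7, 5, 2, 4, 3, 5, 4, 2, 6, 2],
    [3, 5, 3, 5],
    [7, 0, 5, 7],
    [3, 4, 7, 1, 6, 4, 3, 5, 4, 1, 4, 5]]
  S := [0, 2, 3, 5, 6]
  F := FV3
  N := 50

theorem startV3 : fcM (CV3.F.read 0) = 1 := by decide +kernel

theorem rotsV3 : subOf CV3.R (allRots ONTable.iv (base0 ++ Wv.getD 2 [] ++ ONTable.Wder)) = true := by decide +kernel

theorem partV30 : factsOK CV3 0 50 = true := by decide +kernel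

theorem uptoV350 : ∀ i < 50, factOK CV3 i = true :=
  facts_add (C := CV3) 0 50 (facts_zero CV3) partV30

def bodyV3 : ℕ := 0x62

theorem loopV3 : follow CV3.K CV3.iv CV3.F CV3.N 1 bodyV3 0 = some (0, [1]) := by decide +kernel

end Cfsg.Agent.ONLocal
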