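import Cfsg.Agent.Lib.ONLocal.V7Data0

/-!
# The certificate V7
-/

set_option autoImplicit false
set_option maxHeartbeats 0
set_option maxRecDepth 100000

noncomputable section

namespace Cfsg.Agent.ONLocal

open Cfsg.Agent.InvCoset

def FV7 : NTree := FV7_0

def CV7 : Facts where
  K := 8
  iv := ONTable.iv
  R := [
    [1, 0, 1, 0, 1, 0],
    [3, 1, 3, 1],
    [5, 1, 5, 1],
    [6, 1, 2, 3, 6, 1, 2, 3, 6, 1, 2, 3, 6, 1, 2, 3, 6, 1, 2, 3],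
    [1, 6, 1, 2, 6, 2, 6, 1, 2, 6, 2],
    [0, 4, 5, 3, 4, 0, 4, 3, 5, 4],
    [7, 1, 6, 0, 4, 3, 5, 4, 1, 4, 5, 3, 4, 1],
    [3, 4, 5, 3, 4, 5, 4, 3, 5, 4],
    [5, 4, 5, 3, 4, 3, 4, 3, 5, 4],
    [6, 1, 7, 3, 1, 4, 3, 5, 4, 6, 1, 6, 4, 5, 3, 4],
    [6, 4, 5, 3, 4, 3, 7, 2, 7, 5, 2, 4, 3, 5, 4, 2, 6, 2],
    [0, 2, 0, 2],
    [3, 0, 3, 0],
    [5, 0, 5, 0],
    [5, 2, 5, 2],
    [7, 7, 0, 5],
    [2, 6, 2, 6, 1, 2, 6, 2, 1, 6, 1],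
    [4, 3, 6, 3, 6, 4, 3, 6, 3, 4, 6],
    [3, 4, 0, 4, 3, 5, 4, 0, 4, 5],
    [4, 6, 1, 7, 3, 1, 4, 3, 5, 4, 6, 1, 6, 4, 5, 3],
    [7, 2, 7, 5, 2, 4, 3, 5, 4, 2, 6, 2, 6, 4, 5, 3, 4, 3],
    [0, 7, 0, 6],
    [5, 7, 5, 6],
    [6, 6, 6, 6],
    [3, 5, 3, 5],
    [7, 3, 1, 4, 3, 5, 4, 6, 1, 6, 4, 5, 3, 4, 6, 1],
    [7, 5, 2, 4, 3, 5, 4, 2, 6, 2, 6, 4, 5, 3, 4, 3, 7, 2],
    [1, 7, 1, 6, 0, 4, 3, 5, 4, 1, 4, 5, 3, 4],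
    [0, 1, 0, 1, 0, 1],
    [3, 4, 3, 4, 3, 4],
    [7, 0, 5, 7],
    [6, 2, 6, 3, 7, 2, 7, 2, 3, 2],
    [6, 1, 2, 6, 2, 1, 6, 1, 2, 6, 2],
    [1, 4, 5, 3, 4, 1, 7, 1, 6, 0, 4, 3, 5, 4],
    [3, 4, 1, 7, 1, 6, 0, 4, 3, 5, 4, 1, 4, 5]]
  S := [0, 2, 3, 5, 6]
  F := FV7
  N := 282

theorem startV7 : fcM (CV7.F.read 0) = 1 := by decide +kernel

theorem rotsV7 : subOf CV7.R (allRots ONTable.iv (base0 ++ Wv.getD 6 [] ++ ONTable.Wder)) = true := by decide +kernel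

theorem partV70 : factsOK CV7 0 250 = true := by decide +kernel

theorem uptoV7250 : ∀ i < 250, factOK CV7 i = true :=
  facts_add (C := CV7) 0 250 (facts_zero CV7) partV70

theorem partV7250 : factsOK CV7 250 32 = true := by decide +kernel

theorem uptoV7282 : ∀ i < 282, factOK CV7 i = true :=
  facts_add (C := CV7) 250 32 uptoV7250 partV7250

def bodyV7 : ℕ := 0x232

theorem loopV7 : follow CV7.K CV7.iv CV7.F CV7.N 1 bodyV7 0 = some (0, [1]) := by decide +kernel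

end Cfsg.Agent.ONLocal
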