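import Cfsg.Agent.Lib.ONLocal.Closing
import Cfsg.Agent.Lib.ONLocal.CertV1
import Cfsg.Agent.Lib.ONLocal.CertV2
import Cfsg.Agent.Lib.ONLocal.CertV3
import Cfsg.Agent.Lib.ONLocal.CertV4
import Cfsg.Agent.Lib.ONLocal.CertV5
import Cfsg.Agent.Lib.ONLocal.CertV6
import Cfsg.Agent.Lib.ONLocal.CertV7

/-!
# The seven other extensions collapse

With any of the seven other prescriptions for the conjugation by `e d f e` the letter `b` lies in the
subgroup of `a, c, d, f, g`, so commutes with `a`, and hence equals `a`.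
-/

set_option autoImplicit false

noncomputable section

namespace Cfsg.Agent.ONLocal

open Cfsg.Agent.InvCoset Subgroup

theorem range_all : ∀ i : Fin 7, inRange 8 (base0 ++ Wv.getD i [] ++ ONTable.Wder).flatten = true := by
  decide +kernel

theorem facts_base0 : subOf [[0, 0], [1, 1], [0, 1, 0, 1, 0, 1], [0, 2, 0, 2], [0, 3, 0, 3], [0, 5, 0, 5]]
    base0 = true := by
  decide +kernel

theorem eq_of_cert {A : Type*} [Group A] (e : ℕ → A) (hp : Paired 8 ONTable.iv e)
    (hb : ∀ w ∈ base0, prodE e w = 1) {i : Fin 7} (hv : ∀ w ∈ Wv.getD i [], prodE e w = 1)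
    (C : Facts) (hK : C.K = 8) (hiv : C.iv = ONTable.iv)
    (hrot : subOf C.R (allRots ONTable.iv (base0 ++ Wv.getD i [] ++ ONTable.Wder)) = true)
    (hS : C.S = [0, 2, 3, 5, 6]) (h0 : fcM (C.F.read 0) = 1) (hall : ∀ j < C.N, factOK C j = true)
    (len body : ℕ) (h : follow C.K C.iv C.F C.N len body 0 = some (0, [1])) : e 0 = e 1 := by
  set H : Subgroup A := closure (e '' {x | x ∈ C.S}) with hH
  have hall' : ∀ w ∈ base0 ++ Wv.getD i [] ++ ONTable.Wder, prodE e w = 1 := by
    intro w hw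
    rcases List.mem_append.mp hw with hw | hw
    · rcases List.mem_append.mp hw with hw | hw
      exacts [hb w hw, hv w hw]
    · exact derived_words e hp hb w hw
  have hfix := loop_fix (C := C) (Q := A ⧸ H) e ((1 : A) : A ⧸ H)
    ⟨by rw [hK, hiv]; exact hp,
      fun r hr' => prodE_allRots hp
        (fun v hv' y hy => inRange_spec (range_all i) y (List.mem_flatten.mpr ⟨v, hv', hy⟩)) hall' r
        (subOf_spec hrot r hr'),
      fun x hx => by
        rw [MulAction.Quotient.smul_coe, QuotientGroup.eq]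
        simpa using (subset_closure ⟨x, hx, rfl⟩ : e x ∈ H)⟩ h0 hall len body h
  have hb1 : e 1 ∈ H := by
    simp only [actW] at hfix
    rw [MulAction.Quotient.smul_coe, QuotientGroup.eq] at hfix
    simpa using hfix
  have f := fun w hw => hb w (subOf_spec facts_base0 w hw)
  have ha : e 0 * e 0 = 1 := by simpa [prodE] using f [0, 0] (by simp)
  have hbb : e 1 * e 1 = 1 := by simpa [prodE] using f [1, 1] (by simp)
  have hab : e 0 * (e 1 * (e 0 * (e 1 * (e 0 * e 1)))) = 1 := by
    simpa [prodE] using f [0, 1, 0, 1, 0, 1] (by simp)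
  have hcomm : ∀ x, e x * e x = 1 → prodE e [0, x, 0, x] = 1 → e 0 * e x = e x * e 0 := fun x hx h => by
    simp only [prodE, mul_one] at h
    calc e 0 * e x = (e 0 * e x) * (e 0 * (e x * (e 0 * e x)))⁻¹ := by rw [h, inv_one, mul_one]
      _ = (e x)⁻¹ * (e 0)⁻¹ := by group
      _ = _ := by rw [inv_eq_of_mul_eq_one_left hx, inv_eq_of_mul_eq_one_left ha]
  have hsq : ∀ x ∈ [2, 3, 5], e x * e x = 1 := fun x hx => by
    have := hb [x, x] (subOf_spec (show subOf [[2, 2], [3, 3], [5, 5]] base0 = true by decide +kernel) _ (by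
      simp only [List.mem_cons, List.not_mem_nil, or_false] at hx
      rcases hx with rfl | rfl | rfl <;> simp))
    simpa [prodE] using this
  have hle : H ≤ centralizer ({e 0} : Set A) := by
    rw [hH, closure_le, hS]
    rintro _ ⟨x, hx, rfl⟩
    refine mem_centralizer_singleton_iff.2 ?_
    simp only [Set.mem_ofPred_eq, List.mem_cons, List.not_mem_nil, or_false] at hx
    rcases hx with rfl | rfl | rfl | rfl | rfl
    · rfl
    · exact (hcomm 2 (hsq 2 (by simp)) (f _ (by simp))).symm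
    · exact (hcomm 3 (hsq 3 (by simp)) (f _ (by simp))).symm
    · exact (hcomm 5 (hsq 5 (by simp)) (f _ (by simp))).symm
    · have h6 := derived_words e hp hb [0, 6, 0, 7] (by simp [ONTable.Wder])
      have i7 : e 7 = (e 6)⁻¹ := by simpa [ivL, ONTable.iv] using hp.inv 6 (by norm_num)
      simp only [prodE, mul_one, i7] at h6
      calc e 6 * e 0 = e 6 * e 0 * (e 0 * (e 6 * (e 0 * (e 6)⁻¹)))⁻¹⁻¹ := by rw [h6, inv_one, inv_one, mul_one]
        _ = e 6 * (e 0 * e 0) * e 6 * e 0 * (e 6)⁻¹ := by group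
        _ = e 6 * e 6 * e 0 * (e 6)⁻¹ := by rw [ha, mul_one]
        _ = e 0 * e 6 := by
          have h8 : e 6 * e 0 * (e 6)⁻¹ = e 0 := by
            have := eq_inv_of_mul_eq_one_right h6
            rw [show e 6 * e 0 * (e 6)⁻¹ = e 6 * (e 0 * (e 6)⁻¹) by group, this,
              inv_eq_of_mul_eq_one_left ha]
          calc e 6 * e 6 * e 0 * (e 6)⁻¹ = e 6 * (e 6 * e 0 * (e 6)⁻¹) := by group
            _ = e 6 * e 0 := by rw [h8]
            _ = e 6 * e 0 * (e 6)⁻¹ * e 6 := by group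
            _ = e 0 * e 6 := by rw [h8]
  have hc := mem_centralizer_singleton_iff.1 (hle hb1)
  have h2 : (e 0 * e 1) * (e 0 * e 1) = 1 := by
    calc (e 0 * e 1) * (e 0 * e 1) = e 0 * (e 1 * e 0) * e 1 := by group
      _ = e 0 * (e 0 * e 1) * e 1 := by rw [hc]
      _ = (e 0 * e 0) * (e 1 * e 1) := by group
      _ = 1 := by rw [ha, hbb, mul_one]
  have h3 : e 0 * e 1 = 1 := by
    calc e 0 * e 1 = ((e 0 * e 1) * (e 0 * e 1)) * (e 0 * e 1) := by rw [h2, one_mul]
      _ = e 0 * (e 1 * (e 0 * (e 1 * (e 0 * e 1)))) := by group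
      _ = 1 := hab
  calc e 0 = e 0 * (e 1 * e 1) := by rw [hbb, mul_one]
    _ = e 0 * e 1 * e 1 := by group
    _ = e 1 := by rw [h3, one_mul]

/-- None of the seven other prescriptions is possible when `a ≠ b`. -/
theorem collapse {A : Type*} [Group A] (e : ℕ → A) (hp : Paired 8 ONTable.iv e)
    (hb : ∀ w ∈ base0, prodE e w = 1) (i : Fin 7) (hv : ∀ w ∈ Wv.getD i [], prodE e w = 1) : e 0 = e 1 := by
  fin_cases i
  · exact eq_of_cert e hp hb hv CV1 rfl rfl rotsV1 rfl startV1 (fun j hj => uptoV11091 j hj) _ _ loopV1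
  · exact eq_of_cert e hp hb hv CV2 rfl rfl rotsV2 rfl startV2 (fun j hj => uptoV2285 j hj) _ _ loopV2
  · exact eq_of_cert e hp hb hv CV3 rfl rfl rotsV3 rfl startV3 (fun j hj => uptoV350 j hj) _ _ loopV3
  · exact eq_of_cert e hp hb hv CV4 rfl rfl rotsV4 rfl startV4 (fun j hj => uptoV4479 j hj) _ _ loopV4
  · exact eq_of_cert e hp hb hv CV5 rfl rfl rotsV5 rfl startV5 (fun j hj => uptoV5532 j hj) _ _ loopV5
  · exact eq_of_cert e hp hb hv CV6 rfl rfl rotsV6 rfl startV6 (fun j hj => uptoV6325 j hj) _ _ loopV6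
  · exact eq_of_cert e hp hb hv CV7 rfl rfl rotsV7 rfl startV7 (fun j hj => uptoV7282 j hj) _ _ loopV7

end Cfsg.Agent.ONLocal
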