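import Cfsg.Agent.Lib.InvCoset.Facts
import Cfsg.Agent.Lib.ONTable.Words

/-!
# The relators of the two centralisers with the forced relations
-/

set_option autoImplicit false
set_option maxHeartbeats 0
set_option maxRecDepth 100000

noncomputable section

namespace Cfsg.Agent.ONLocal

open Cfsg.Agent.InvCoset

/-- The six relations between the two centralisers. -/
def Wud : List (List ℕ) := [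
  [4, 3, 5, 4, 0, 4, 5, 3, 4, 0],
  [4, 3, 5, 4, 1, 4, 5, 3, 4, 1],
  [4, 3, 5, 4, 3, 4, 5, 3, 4, 5],
  [4, 3, 5, 4, 5, 4, 5, 3, 4, 3],
  [4, 3, 5, 4, 6, 1, 6, 4, 5, 3, 4, 7, 1, 7, 5, 3],
  [4, 3, 5, 4, 2, 6, 2, 6, 4, 5, 3, 4, 3, 7, 2, 7, 5, 2]]

/-- The relators without the commutation of `b` and `e`, with the squares. -/
def base0 : List (List ℕ) :=
  ONTable.W0.filter (fun w => !decide (w = [1, 4, 1, 4])) ++ ONTable.Wsq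

/-- With the six relations. -/
def base : List (List ℕ) := base0 ++ Wud

/-- The seven other extensions of the conjugation from the part commuting with `a`. -/
def Wv : List (List (List ℕ)) := [
  [
    [4, 3, 5, 4, 0, 4, 5, 3, 4, 0],
    [4, 3, 5, 4, 1, 4, 5, 3, 4, 0, 1, 0],
    [4, 3, 5, 4, 3, 4, 5, 3, 4, 5],
    [4, 3, 5, 4, 5, 4, 5, 3, 4, 3],
    [4, 3, 5, 4, 6, 1, 6, 4, 5, 3, 4, 6, 1, 7, 3, 0],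
    [4, 3, 5, 4, 2, 6, 2, 6, 4, 5, 3, 4, 3, 7, 2, 7, 5, 2]],
  [
    [4, 3, 5, 4, 0, 4, 5, 3, 4, 0],
    [4, 3, 5, 4, 1, 4, 5, 3, 4, 6, 1, 7],
    [4, 3, 5, 4, 3, 4, 5, 3, 4, 5],
    [4, 3, 5, 4, 5, 4, 5, 3, 4, 3],
    [4, 3, 5, 4, 6, 1, 6, 4, 5, 3, 4, 7, 1, 6, 3, 1],
    [4, 3, 5, 4, 2, 6, 2, 6, 4, 5, 3, 4, 3, 7, 2, 7, 5, 2]],
  [
    [4, 3, 5, 4, 0, 4, 5, 3, 4, 0],
    [4, 3, 5, 4, 1, 4, 5, 3, 4, 7, 1, 6],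
    [4, 3, 5, 4, 3, 4, 5, 3, 4, 5],
    [4, 3, 5, 4, 5, 4, 5, 3, 4, 3],
    [4, 3, 5, 4, 6, 1, 6, 4, 5, 3, 4, 1, 7, 1, 6, 3],
    [4, 3, 5, 4, 2, 6, 2, 6, 4, 5, 3, 4, 3, 7, 2, 7, 5, 2]],
  [
    [4, 3, 5, 4, 0, 4, 5, 3, 4, 0],
    [4, 3, 5, 4, 1, 4, 5, 3, 4, 6, 1, 7, 1, 0],
    [4, 3, 5, 4, 3, 4, 5, 3, 4, 5],
    [4, 3, 5, 4, 5, 4, 5, 3, 4, 3],
    [4, 3, 5, 4, 6, 1, 6, 4, 5, 3, 4, 3, 0, 1],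
    [4, 3, 5, 4, 2, 6, 2, 6, 4, 5, 3, 4, 3, 7, 2, 7, 5, 2]],
  [
    [4, 3, 5, 4, 0, 4, 5, 3, 4, 0],
    [4, 3, 5, 4, 1, 4, 5, 3, 4, 7, 1, 6, 1, 0],
    [4, 3, 5, 4, 3, 4, 5, 3, 4, 5],
    [4, 3, 5, 4, 5, 4, 5, 3, 4, 3],
    [4, 3, 5, 4, 6, 1, 6, 4, 5, 3, 4, 1, 6, 1, 7, 3],
    [4, 3, 5, 4, 2, 6, 2, 6, 4, 5, 3, 4, 3, 7, 2, 7, 5, 2]],
  [
    [4, 3, 5, 4, 0, 4, 5, 3, 4, 0],
    [4, 3, 5, 4, 1, 4, 5, 3, 4, 1, 6, 1, 7, 0],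
    [4, 3, 5, 4, 3, 4, 5, 3, 4, 5],
    [4, 3, 5, 4, 5, 4, 5, 3, 4, 3],
    [4, 3, 5, 4, 6, 1, 6, 4, 5, 3, 4, 3, 1, 0],
    [4, 3, 5, 4, 2, 6, 2, 6, 4, 5, 3, 4, 3, 7, 2, 7, 5, 2]],
  [
    [4, 3, 5, 4, 0, 4, 5, 3, 4, 0],
    [4, 3, 5, 4, 1, 4, 5, 3, 4, 1, 7, 1, 6, 0],
    [4, 3, 5, 4, 3, 4, 5, 3, 4, 5],
    [4, 3, 5, 4, 5, 4, 5, 3, 4, 3],
    [4, 3, 5, 4, 6, 1, 6, 4, 5, 3, 4, 6, 1, 7, 3, 1],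
    [4, 3, 5, 4, 2, 6, 2, 6, 4, 5, 3, 4, 3, 7, 2, 7, 5, 2]]]

end Cfsg.Agent.ONLocal
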