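import Cfsg.Agent.Lib.ONLocal.AData0
import Cfsg.Agent.Lib.ONLocal.AData1
import Cfsg.Agent.Lib.ONLocal.AData2

/-!
# The certificate A
-/

set_option autoImplicit false
set_option maxHeartbeats 0
set_option maxRecDepth 100000

noncomputable section

namespace Cfsg.Agent.ONLocal

open Cfsg.Agent.InvCoset

def FA : NTree := (.node 1500 FA_0 (.node 1500 FA_1 FA_2))

def CA : Facts where
  K := 8
  iv := ONTable.iv
  R := [
    [0, 1, 0, 1, 0, 1],
    [0, 2, 0, 2],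
    [0, 3, 0, 3],
    [0, 4, 0, 4],
    [0, 5, 0, 5],
    [1, 2, 1, 2, 1, 2],
    [1, 3, 1, 3],
    [1, 5, 1, 5],
    [2, 3, 2, 3, 2, 3, 2, 3, 2, 3, 2, 3, 2, 3, 2, 3],
    [2, 4, 2, 4],
    [2, 5, 2, 5],
    [3, 4, 3, 4, 3, 4],
    [3, 5, 3, 5],
    [4, 5, 4, 5, 4, 5],
    [7, 7, 0, 5],
    [3, 2, 3, 2, 3, 2, 3, 2, 0, 5],
    [6, 2, 7, 3, 7, 3, 2, 3, 6, 3],
    [2, 6, 3, 7, 2, 7, 2, 3, 2, 6],
    [2, 3, 6, 1, 2, 3, 6, 1, 2, 3, 6, 1, 2, 3, 6, 1, 2, 3, 6, 1],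
    [2, 6, 2, 6, 1, 2, 6, 2, 1, 6, 1],
    [3, 6, 3, 6, 4, 3, 6, 3, 4, 6, 4],
    [5, 2, 5, 2],
    [5, 3, 5, 3],
    [2, 3, 2, 3, 2, 3, 2, 0, 5, 3],
    [6, 2, 6, 3, 7, 2, 7, 2, 3, 2],
    [1, 2, 6, 2, 6, 1, 2, 6, 2, 1, 6],
    [1, 0, 1, 0, 1, 0],
    [6, 3, 6, 2, 7, 3, 7, 3, 2, 3],
    [4, 3, 6, 3, 6, 4, 3, 6, 3, 4, 6],
    [2, 1, 2, 1, 2, 1],
    [7, 0, 5, 7],
    [3, 6, 2, 7, 3, 7, 3, 2, 3, 6],
    [3, 0, 3, 0],
    [5, 0, 5, 0],
    [5, 1, 5, 1],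
    [2, 0, 2, 0],
    [5, 4, 5, 4, 5, 4],
    [3, 1, 3, 1],
    [3, 2, 3, 2, 3, 2, 3, 2, 3, 2, 3, 2, 3, 2, 3, 2],
    [3, 2, 3, 2, 3, 2, 0, 5, 3, 2],
    [3, 2, 3, 6, 3, 6, 2, 7, 3, 7],
    [3, 2, 6, 2, 6, 3, 7, 2, 7, 2],
    [6, 1, 2, 3, 6, 1, 2, 3, 6, 1, 2, 3, 6, 1, 2, 3, 6, 1, 2, 3],
    [7, 2, 3, 2, 6, 2, 6, 3, 7, 2],
    [1, 2, 3, 6, 1, 2, 3, 6, 1, 2, 3, 6, 1, 2, 3, 6, 1, 2, 3, 6],
    [6, 4, 3, 6, 3, 6, 4, 3, 6, 3, 4],
    [3, 2, 3, 2, 0, 5, 3, 2, 3, 2],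
    [2, 3, 2, 3, 2, 0, 5, 3, 2, 3],
    [7, 3, 2, 3, 6, 3, 6, 2, 7, 3],
    [1, 6, 1, 2, 6, 2, 6, 1, 2, 6, 2],
    [6, 1, 2, 6, 2, 6, 1, 2, 6, 2, 1],
    [2, 3, 6, 3, 6, 2, 7, 3, 7, 3],
    [1, 2, 6, 2, 1, 6, 1, 2, 6, 2, 6],
    [6, 2, 1, 6, 1, 2, 6, 2, 6, 1, 2],
    [4, 3, 6, 3, 4, 6, 4, 3, 6, 3, 6],
    [0, 5, 7, 7],
    [3, 6, 3, 6, 2, 7, 3, 7, 3, 2],
    [2, 6, 2, 6, 3, 7, 2, 7, 2, 3],
    [6, 1, 2, 6, 2, 1, 6, 1, 2, 6, 2],
    [2, 7, 2, 3, 2, 6, 2, 6, 3, 7],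
    [3, 7, 3, 2, 3, 6, 3, 6, 2, 7],
    [2, 0, 5, 3, 2, 3, 2, 3, 2, 3],
    [6, 4, 3, 6, 3, 4, 6, 4, 3, 6, 3],
    [2, 3, 2, 6, 2, 6, 3, 7, 2, 7]]
  S := []
  F := FA
  N := 3740

theorem startA : fcM (CA.F.read 0) = 1 := by decide +kernel

theorem rotsA : subOf CA.R (allRots ONTable.iv (base0)) = true := by decide +kernel

theorem partA0 : factsOK CA 0 250 = true := by decide +kernel

theorem uptoA250 : ∀ i < 250, factOK CA i = true :=
  facts_add (C := CA) 0 250 (facts_zero CA) partA0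

theorem partA250 : factsOK CA 250 250 = true := by decide +kernel

theorem uptoA500 : ∀ i < 500, factOK CA i = true :=
  facts_add (C := CA) 250 250 uptoA250 partA250

theorem partA500 : factsOK CA 500 250 = true := by decide +kernel

theorem uptoA750 : ∀ i < 750, factOK CA i = true :=
  facts_add (C := CA) 500 250 uptoA500 partA500

theorem partA750 : factsOK CA 750 250 = true := by decide +kernel

theorem uptoA1000 : ∀ i < 1000, factOK CA i = true :=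
  facts_add (C := CA) 750 250 uptoA750 partA750

theorem partA1000 : factsOK CA 1000 250 = true := by decide +kernel

theorem uptoA1250 : ∀ i < 1250, factOK CA i = true :=
  facts_add (C := CA) 1000 250 uptoA1000 partA1000

theorem partA1250 : factsOK CA 1250 250 = true := by decide +kernel

theorem uptoA1500 : ∀ i < 1500, factOK CA i = true :=
  facts_add (C := CA) 1250 250 uptoA1250 partA1250

theorem partA1500 : factsOK CA 1500 250 = true := by decide +kernel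

theorem uptoA1750 : ∀ i < 1750, factOK CA i = true :=
  facts_add (C := CA) 1500 250 uptoA1500 partA1500

theorem partA1750 : factsOK CA 1750 250 = true := by decide +kernel

theorem uptoA2000 : ∀ i < 2000, factOK CA i = true :=
  facts_add (C := CA) 1750 250 uptoA1750 partA1750

theorem partA2000 : factsOK CA 2000 250 = true := by decide +kernel

theorem uptoA2250 : ∀ i < 2250, factOK CA i = true :=
  facts_add (C := CA) 2000 250 uptoA2000 partA2000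

theorem partA2250 : factsOK CA 2250 250 = true := by decide +kernel

theorem uptoA2500 : ∀ i < 2500, factOK CA i = true :=
  facts_add (C := CA) 2250 250 uptoA2250 partA2250

theorem partA2500 : factsOK CA 2500 250 = true := by decide +kernel

theorem uptoA2750 : ∀ i < 2750, factOK CA i = true :=
  facts_add (C := CA) 2500 250 uptoA2500 partA2500

theorem partA2750 : factsOK CA 2750 250 = true := by decide +kernel

theorem uptoA3000 : ∀ i < 3000, factOK CA i = true :=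
  facts_add (C := CA) 2750 250 uptoA2750 partA2750

theorem partA3000 : factsOK CA 3000 250 = true := by decide +kernel

theorem uptoA3250 : ∀ i < 3250, factOK CA i = true :=
  facts_add (C := CA) 3000 250 uptoA3000 partA3000

theorem partA3250 : factsOK CA 3250 250 = true := by decide +kernel

theorem uptoA3500 : ∀ i < 3500, factOK CA i = true :=
  facts_add (C := CA) 3250 250 uptoA3250 partA3250

theorem partA3500 : factsOK CA 3500 240 = true := by decide +kernel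

theorem uptoA3740 : ∀ i < 3740, factOK CA i = true :=
  facts_add (C := CA) 3500 240 uptoA3500 partA3500

def bodyA : ℕ := 0x368074d80023800000

theorem loopA : follow CA.K CA.iv CA.F CA.N 4 bodyA 0 = some (0, [0, 6, 0, 7]) := by decide +kernel

end Cfsg.Agent.ONLocal
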