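import Cfsg.Agent.Lib.ONLocal.Words

/-!
# Facts of the certificate, part 0
-/

set_option autoImplicit false
set_option maxHeartbeats 0
set_option maxRecDepth 100000

noncomputable section

namespace Cfsg.Agent.ONLocal

open Cfsg.Agent.InvCoset

def FG_0 : NTree := (.node 9 (.node 4 (.node 2 (.node 1 (.leaf 0x100000000000100000) (.leaf 0x200000020000200000)) (.node 1 (.leaf 0x300000050000300000) (.leaf 0x400000050000400001))) (.node 2 (.node 1 (.leaf 0x1800000000050000503000100000300004) (.leaf 0x500000060000500000)) (.node 1 (.leaf 0x18000000000b0000603001170000500004) (.node 1 (.leaf 0x600000070000600002) (.leaf 0x700000030000700006))))) (.node 5 (.node 2 (.node 1 (.leaf 0x800000070000800007) (.leaf 0x900000030000900008)) (.node 1 (.leaf 0xa00000020000a00009) (.node 1 (.leaf 0xb00000030000b0000a) (.leaf 0xc00000060000c0000b)))) (.node 2 (.node 1 (.leaf 0xd00000030000d0000c) (.leaf 0x1c0000d0000600002c00014000090000400001c000020000e0900216000000000d)) (.node 1 (.leaf 0xe00000060000e00004) (.node 1 (.leaf 0xf80001400010000210000f04003180000e0000d) (.leaf 0x46000200000f02000360000d00004))))))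

end Cfsg.Agent.ONLocal
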