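import Cfsg.Agent.Lib.ONLocal.Words

/-!
# Facts of the certificate, part 0
-/

set_option autoImplicit false
set_option maxHeartbeats 0
set_option maxRecDepth 100000

noncomputable section

namespace Cfsg.Agent.ONLocal

open Cfsg.Agent.InvCoset

def FV3_0 : NTree := (.node 25 (.node 12 (.node 6 (.node 3 (.node 1 (.leaf 0x100000200000000000) (.node 1 (.leaf 0x100000220000000000) (.leaf 0x100000230000000000))) (.node 1 (.leaf 0x100000250000000000) (.node 1 (.leaf 0x100000260000000000) (.leaf 0x100000010000100000)))) (.node 3 (.node 1 (.leaf 0x200000040000200000) (.node 1 (.leaf 0x300000030000300002) (.leaf 0x400000050000400002))) (.node 1 (.leaf 0x500000050000500003) (.node 1 (.leaf 0x600000040000600005) (.leaf 0x140000900003800018000010000680003c00026000150000709000100000600006))))) (.node 6 (.node 3 (.node 1 (.leaf 0x700000010000700006) (.node 1 (.leaf 0x800000040000800007) (.leaf 0x900000050000900008))) (.node 1 (.leaf 0xa00000030000a00009) (.node 1 (.leaf 0xb00000040000b0000a) (.leaf 0x800003c0001c0000d000060000280001200007000030000100000b0000c0b00117000010000b)))) (.node 3 (.node 1 (.leaf 0x140000900003800018000070000680003c00026000150000c09002130000600006)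 (.node 1 (.leaf 0x140000900003800018000050000680003c00026000150000c09003150000600006) (.leaf 0xc00000060000c00006))) (.node 2 (.node 1 (.leaf 0xd00000010000d0000c) (.leaf 0xe00000060000e0000d)) (.node 1 (.leaf 0xf00000040000f0000e) (.leaf 0x1000000020001000006)))))) (.node 12 (.node 6 (.node 3 (.node 1 (.leaf 0x1100000060001100010) (.node 1 (.leaf 0x1200000020001200011) (.leaf 0x34000190000c000028000120000700003000006000070000480000c00012000050000680003c00026000150001311005160000600012))) (.node 1 (.leaf 0x1300000040001300001) (.node 1 (.leaf 0x1400000050001400013) (.leaf 0x480001c000110001503006130000400005)))) (.node 3 (.node 1 (.leaf 0x1b80009c0002e000290001504007180000c00012) (.node 1 (.leaf 0x7c000370001502000370000c00006) (.leaf 0xe8000700000a000068000440007800015000208000ac0005a0002f000150b008130000f00014))) (.node 1 (.leaf 0x150000005000150000a) (.node 1 (.leaf 0x1600000030001600015) (.leaf 0x1700000040001700016))))) (.node 6 (.node 3 (.node 1 (.leaf 0x1200008c000440001080008c000140000800006800044000780001500012000104000560002d000180f004110000e00017) (.node 1 (.leaf 0x1800000030001800008) (.leaf 0x1900000050001900018)))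 (.node 1 (.leaf 0x270001300003a0001f0001a04006180000a00019) (.node 1 (.leaf 0x110000a00004e0001a03000480001500018) (.leaf 0x118000a40004c0001a03000480001600008)))) (.node 3 (.node 1 (.leaf 0x6c000aa000490001a03000480000700017) (.node 1 (.leaf 0x64000ac0004b0001a0300048000060000e) (.leaf 0x54000b00002f0001a0300048000050000f))) (.node 2 (.node 1 (.leaf 0xf0000b4000420001a03000480000400014) (.leaf 0x44000b80003a0001a03000480000200013)) (.node 1 (.leaf 0x34000bc000380001a03000480000000001) (.leaf 0xc00000a0001a02000310000000000)))))))

end Cfsg.Agent.ONLocal
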